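import Groth.Agent.InsepLimLib.Pencil

/-!
# Orders of the Wronskian and ramification indices below the characteristic
-/

set_option autoImplicit false

universe u

open Polynomial W4c1limliniiii

noncomputable section

namespace RamShiftLib

variable {k : Type u} [Field k]

theorem exists_det {F G s : k[X]} (hs0 : s ≠ 0) {x y : k} (hs : C x * F + C y * G = s) :
    ∃ z w : k, x * w - y * z ≠ 0 := by
  by_cases hx : x = 0
  · refine ⟨1, 0, ?_⟩
    simp only [hx, zero_mul, mul_one, zero_sub, neg_ne_zero]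
    exact fun hy => hs0 (by rw [← hs, hx, hy]; simp)
  · exact ⟨0, 1, by simpa using hx⟩

/-- The order of the Wronskian at a point of index prime to `p`. -/
theorem not_pow_dvd_wronskian {F G s : k[X]} {b : k} {o : ℕ} (hbpf : ¬ (F.eval b = 0 ∧ G.eval b = 0))
    (hs0 : s ≠ 0) {x y : k} (hs : C x * F + C y * G = s) (ho : s.rootMultiplicity b = o) (ho0 : o ≠ 0)
    (hok : (o : k) ≠ 0) : ¬ (X - C b) ^ o ∣ wronskian F G := by
  intro hdvd
  obtain ⟨z, w, hdet⟩ := exists_det hs0 hs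
  obtain ⟨S1, hS1, hS1'⟩ := InsepLimLib.exists_factor hs0 b
  rw [ho] at hS1
  set T := C z * F + C w * G with hT
  have hT0 : T.eval b ≠ 0 := fun h => by
    have h1 : s.eval b = 0 := by rw [hS1, eval_mul, eval_pow, eval_sub, eval_X, eval_C, sub_self, zero_pow ho0, zero_mul]
    rw [← hs] at h1
    simp only [hT, eval_add, eval_mul, eval_C] at h h1
    refine hbpf ⟨(mul_eq_zero.1 (show (x * w - y * z) * F.eval b = 0 by linear_combination w * h1 - y * h)).resolve_left
      hdet, (mul_eq_zero.1 (show (x * w - y * z) * G.eval b = 0 by linear_combination x * h - z * h1)).resolve_left hdet⟩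
  obtain ⟨R, hR⟩ : (X - C b) ^ o ∣ wronskian s T := by
    rw [← hs, hT, InsepLimLib.wronskian_comb]; exact hdvd.mul_left _
  rw [wronskian] at hR
  have e1 := InsepLimLib.euler b o S1
  rw [← hS1] at e1
  have key : (X - C b) ^ o * (S1 * (X - C b) * derivative T - ((o : k[X]) * S1 + (X - C b) * derivative S1) * T -
      (X - C b) * R) = 0 := by
    linear_combination (X - C b) * hR - (X - C b) * derivative T * hS1 + T * e1
  have h0 := congrArg (Polynomial.eval b) ((mul_eq_zero.1 key).resolve_left (pow_ne_zero _ (X_sub_C_ne_zero b)))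
  simp [hok, hS1', hT0] at h0

/-- Indices below `p` depend only on the Wronskian. -/
theorem hasRamIdx_of_wronskian (p : ℕ) [CharP k p] {F G : k[X]} {b : k} {e : ℕ}
    (hbpf : ¬ (F.eval b = 0 ∧ G.eval b = 0)) (hi : ∀ x y : k, C x * F + C y * G = 0 → x = 0 ∧ y = 0)
    (he : 1 ≤ e) (hlt : p = 0 ∨ e < p) (hdvd : (X - C b) ^ (e - 1) ∣ wronskian F G)
    (hndvd : ¬ (X - C b) ^ e ∣ wronskian F G) : HasRamIdx (Submodule.span k {F, G}) b e := by
  have hmem : ∀ s ∈ Submodule.span k {F, G}, ∃ x y : k, C x * F + C y * G = s := fun s hs => by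
    rw [Submodule.mem_span_pair] at hs
    obtain ⟨x, y, h⟩ := hs
    exact ⟨x, y, by rw [← smul_eq_C_mul, ← smul_eq_C_mul]; exact h⟩
  have hmax : ∀ s ∈ Submodule.span k {F, G}, s ≠ 0 → s.rootMultiplicity b ≤ e := fun s hs hs0 => by
    obtain ⟨x, y, rfl⟩ := hmem s hs
    obtain ⟨z, w, hdet⟩ := exists_det hs0 rfl
    by_contra hlt'
    rw [not_le] at hlt'
    have h1 : (X - C b) ^ ((C x * F + C y * G).rootMultiplicity b - 1) ∣ C (x * w - y * z) * wronskian F G := by
      rw [← InsepLimLib.wronskian_comb]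
      exact RamMapLib.pow_pred_dvd_wronskian_left ((le_rootMultiplicity_iff hs0).1 le_rfl)
    exact hndvd ((pow_dvd_pow _ (by omega)).trans ((IsUnit.dvd_mul_left (isUnit_C.2 (Ne.isUnit hdet))).1 h1))
  refine ⟨?_, hmax⟩
  set s := C (G.eval b) * F + C (-F.eval b) * G with hs
  have hs0 : s ≠ 0 := fun h => by
    obtain ⟨h1, h2⟩ := hi _ _ h
    exact hbpf ⟨neg_eq_zero.1 h2, h1⟩
  have hsV : s ∈ Submodule.span k {F, G} := by
    rw [hs, ← smul_eq_C_mul, ← smul_eq_C_mul]; exact Submodule.mem_span_pair.2 ⟨_, _, rfl⟩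
  have hle := hmax s hsV hs0
  have ho : 1 ≤ s.rootMultiplicity b := (rootMultiplicity_pos hs0).2 (by simp [hs, IsRoot]; ring)
  refine ⟨s, hsV, hs0, ?_⟩
  by_contra hlt'
  rw [not_le] at hlt'
  refine not_pow_dvd_wronskian hbpf hs0 hs.symm rfl (by omega) ?_ ((pow_dvd_pow _ (by omega)).trans hdvd)
  rw [Ne, CharP.cast_eq_zero_iff k p]
  intro h
  rcases hlt with rfl | hlt
  · rw [zero_dvd_iff] at h; omega
  · have := Nat.le_of_dvd (by omega) h; omega

theorem wronskian_dvd_of_hasRamIdx {F G : k[X]} {b : k} {e : ℕ}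
    (h : HasRamIdx (Submodule.span k {F, G}) b e) : (X - C b) ^ (e - 1) ∣ wronskian F G := by
  obtain ⟨⟨s, hs, hs0, hse⟩, -⟩ := h
  obtain ⟨x, y, hxy⟩ := Submodule.mem_span_pair.1 hs
  rw [smul_eq_C_mul, smul_eq_C_mul] at hxy
  obtain ⟨z, w, hdet⟩ := exists_det hs0 hxy
  refine (IsUnit.dvd_mul_left (isUnit_C.2 (Ne.isUnit hdet))).1 ?_
  rw [← InsepLimLib.wronskian_comb, hxy]
  exact RamMapLib.pow_pred_dvd_wronskian_left ((le_rootMultiplicity_iff hs0).1 hse)

theorem not_dvd_of_hasRamIdx {F G : k[X]} {b : k} {e : ℕ} (hbpf : ¬ (F.eval b = 0 ∧ G.eval b = 0))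
    (he : e ≠ 0) (hek : (e : k) ≠ 0) (h : HasRamIdx (Submodule.span k {F, G}) b e) :
    ¬ (X - C b) ^ e ∣ wronskian F G := by
  obtain ⟨⟨s, hs, hs0, hse⟩, hmax⟩ := h
  obtain ⟨x, y, hxy⟩ := Submodule.mem_span_pair.1 hs
  rw [smul_eq_C_mul, smul_eq_C_mul] at hxy
  exact not_pow_dvd_wronskian hbpf hs0 hxy (le_antisymm (hmax s hs hs0) hse) he hek

end RamShiftLib

end
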