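import Groth.Agent.RamMapLib.Generic
import Groth.Agent.S13921
import Mathlib.RingTheory.AlgebraicIndependent.AlgebraicClosure
import Mathlib.FieldTheory.AlgebraicClosure

/-!
# General configurations have separated values, unramified points allowed
-/

set_option autoImplicit false

universe u

open Polynomial RamMapLib

noncomputable section

namespace RamShiftLib

variable {n d : ℕ} {e : Fin n → ℕ} {a b : Fin (d + 1)}

/-- Forgetting unramified points. -/
theorem exists_sub {E : Type u} [Field E] {φ : Var n d → E} (h : Sol e a b φ)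
    (hsum : (∑ i, e i) + 2 = 2 * d + n) (he : ∀ i, 1 ≤ e i) :
    ∃ (m : ℕ) (ι : Fin m → Fin n) (ψ : Var m d → E), Function.Injective ι ∧ (∀ l, 2 ≤ e (ι l)) ∧
      (∀ i, 2 ≤ e i → ∃ l, ι l = i) ∧ ((∑ l, e (ι l)) + 2 = 2 * d + m) ∧ Sol (e ∘ ι) a b ψ ∧
      (∀ l, ψ (.P l) = φ (.P (ι l))) ∧ pF ψ = pF φ ∧ pG ψ = pG φ ∧
      (∀ x, ψ (.F x) = φ (.F x)) ∧ (∀ x, ψ (.G x) = φ (.G x)) := by
  classical
  let T := Finset.univ.filter fun i => 2 ≤ e i
  let ι : Fin T.card → Fin n := fun l => (T.equivFin.symm l : Fin n)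
  have hinj : Function.Injective ι := Subtype.val_injective.comp T.equivFin.symm.injective
  let ψ : Var T.card d → E := fun v => match v with
    | .F m => φ (.F m)
    | .G m => φ (.G m)
    | .U m => φ (.U m)
    | .W m => φ (.W m)
    | .Z c => φ (.Z c)
    | .H l m => φ (.H (ι l) m)
    | .Zh l => φ (.Zh (ι l))
    | .Y l l' => φ (.Y (ι l) (ι l'))
    | .P l => φ (.P (ι l))
  refine ⟨T.card, ι, ψ, hinj, fun l => (Finset.mem_filter.1 (T.equivFin.symm l).2).2, fun i hi =>
    ⟨T.equivFin ⟨i, Finset.mem_filter.2 ⟨Finset.mem_univ i, hi⟩⟩, by simp [ι]⟩, ?_,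
    ⟨h.bez, h.lead, h.hFa, h.hFb, h.hGa, h.hGb, fun l => h.ram (ι l), fun l => h.hH (ι l),
      fun l l' hll => h.dist (ι l) (ι l') fun hh => hll (hinj hh)⟩,
    fun l => rfl, rfl, rfl, fun x => rfl, fun x => rfl⟩
  have h1 : ∑ l, e (ι l) = ∑ i ∈ T, e i := by
    rw [← Finset.sum_coe_sort T e]
    exact Equiv.sum_comp T.equivFin.symm (fun i : T => e i)
  have h2 : ∑ i ∈ Finset.univ.filter (fun i => ¬ 2 ≤ e i), e i = (Finset.univ.filter (fun i => ¬ 2 ≤ e i)).card := by
    rw [Finset.card_eq_sum_ones]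
    exact Finset.sum_congr rfl fun i hi => by
      have := (Finset.mem_filter.1 hi).2
      have := he i
      omega
  have h3 := Finset.sum_filter_add_sum_filter_not Finset.univ (fun i => 2 ≤ e i) e
  have h4 := Finset.card_filter_add_card_filter_not (s := (Finset.univ : Finset (Fin n))) (fun i => 2 ≤ e i)
  rw [Finset.card_univ, Fintype.card_fin] at h4
  rw [h1]
  change ∑ i ∈ T, e i + 2 = 2 * d + T.card
  simp only [T] at *
  omega

/-- In a field, independent points are separated. -/
theorem not_algebraicIndependent_of_eq {k : Type u} [Field k] {E : Type u} [Field E] [Algebra k E]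
    {φ : Var n d → E} (h : Sol e a b φ) (hsum : (∑ i, e i) + 2 = 2 * d + n) (he : ∀ i, 1 ≤ e i)
    (hek : ∀ i, (e i : k) ≠ 0) {i j : Fin n} (hij : i ≠ j)
    (hval : (pF φ).eval (φ (.P i)) * (pG φ).eval (φ (.P j)) = (pF φ).eval (φ (.P j)) * (pG φ).eval (φ (.P i))) :
    ¬ AlgebraicIndependent k (fun l => φ (.P l)) := by
  classical
  intro hind
  obtain ⟨m, ι, ψ, hι, hι2, hιmem, hsum', hψ, hψP, hψF, hψG, hψf, hψg⟩ := exists_sub h hsum he
  obtain ⟨hcoord, hpair⟩ := not_algebraicIndependent hψ hsum' hι2 fun l => hek (ι l)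
  have hindsub : AlgebraicIndependent k fun l => ψ (.P l) := by
    simp only [hψP]; exact hind.comp ι hι
  have key : ∀ i j : Fin n, i ≠ j → ¬ 2 ≤ e i →
      (pF φ).eval (φ (.P i)) * (pG φ).eval (φ (.P j)) = (pF φ).eval (φ (.P j)) * (pG φ).eval (φ (.P i)) → False := by
    intro i j hij hi hval
    let s := (fun l => φ (.P l)) '' {i}ᶜ
    have hall : ∀ l, l ≠ i → φ (.P l) ∈ IntermediateField.adjoin k s := fun l hl =>
      IntermediateField.subset_adjoin k s ⟨l, hl, rfl⟩
    set M := algebraicClosure (IntermediateField.adjoin k s) E with hM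
    have hcoefmem : ∀ v : Var m d, (∃ x, v = .F x ∨ v = .G x) → ψ v ∈ M := by
      intro v hv
      have h1 : ¬ Transcendental (Algebra.adjoin k (Set.range fun l => ψ (.P l))) (ψ v) := fun ht =>
        hcoord v hv (by
          have := (hindsub.option_iff_transcendental (ψ v)).2 ht
          convert this using 1
          funext o
          cases o <;> rfl)
      rw [Transcendental, not_not, ← IntermediateField.isAlgebraic_adjoin_iff] at h1
      rw [hM, mem_algebraicClosure_iff]
      have hle : IntermediateField.adjoin k (Set.range fun l => ψ (.P l)) ≤ IntermediateField.adjoin k s := by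
        refine IntermediateField.adjoin_le_iff.2 ?_
        rintro _ ⟨l, rfl⟩
        show ψ (.P l) ∈ _
        rw [hψP]
        exact hall _ fun hh => hi (hh ▸ hι2 l)
      letI : Algebra (IntermediateField.adjoin k (Set.range fun l => ψ (.P l))) (IntermediateField.adjoin k s) :=
        (IntermediateField.inclusion hle).toRingHom.toAlgebra
      haveI : IsScalarTower (IntermediateField.adjoin k (Set.range fun l => ψ (.P l)))
          (IntermediateField.adjoin k s) E := IsScalarTower.of_algebraMap_eq fun _ => rfl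
      exact h1.tower_top _
    have hcM : ∀ x : ℕ, (pF φ).coeff x ∈ M ∧ (pG φ).coeff x ∈ M := fun x => by
      rw [pF, pG, coeff_pk, coeff_pk]
      split
      · exact ⟨hψf _ ▸ hcoefmem _ ⟨_, Or.inl rfl⟩, hψg _ ▸ hcoefmem _ ⟨_, Or.inr rfl⟩⟩
      · exact ⟨M.zero_mem, M.zero_mem⟩
    have hjM : φ (.P j) ∈ M := by
      rw [hM, mem_algebraicClosure_iff]
      exact isAlgebraic_algebraMap (⟨_, hall j hij.symm⟩ : IntermediateField.adjoin k s)
    obtain ⟨F₁, hF₁⟩ : ∃ f : Polynomial M, f.map (algebraMap M E) = pF φ :=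
      (mem_lifts _).1 ((lifts_iff_coeff_lifts _).2 fun x => ⟨⟨_, (hcM x).1⟩, rfl⟩)
    obtain ⟨G₁, hG₁⟩ : ∃ f : Polynomial M, f.map (algebraMap M E) = pG φ :=
      (mem_lifts _).1 ((lifts_iff_coeff_lifts _).2 fun x => ⟨⟨_, (hcM x).2⟩, rfl⟩)
    let pj : M := ⟨_, hjM⟩
    let q : Polynomial M := C (G₁.eval pj) * F₁ - C (F₁.eval pj) * G₁
    have hev : ∀ f : Polynomial M, algebraMap M E (f.eval pj) = (f.map (algebraMap M E)).eval (φ (.P j)) := fun f =>
      (eval_map_apply (algebraMap M E) pj).symm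
    have hqmap : q.map (algebraMap M E) =
        C ((pG φ).eval (φ (.P j))) * pF φ - C ((pF φ).eval (φ (.P j))) * pG φ := by
      simp only [q, Polynomial.map_sub, Polynomial.map_mul, map_C, hev, hF₁, hG₁]
    have hroot : Polynomial.aeval (φ (.P i)) q = 0 := by
      rw [aeval_def, ← eval_map, hqmap, eval_sub, eval_mul, eval_mul, eval_C, eval_C]
      linear_combination hval
    have hq0 : q ≠ 0 := fun h0 => by
      have h1 := congrArg (fun f => coeff f (a : ℕ)) hqmap
      have h2 := congrArg (fun f => coeff f (b : ℕ)) hqmap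
      simp only [h0, Polynomial.map_zero, coeff_zero, coeff_sub, coeff_C_mul, pF, pG, coeff_pk, dif_pos a.isLt,
        dif_pos b.isLt, Fin.eta, h.hFa, h.hFb, h.hGa, h.hGb, mul_one, mul_zero, sub_zero, zero_sub] at h1 h2
      have h3 := congrArg (Polynomial.eval (φ (.P j))) h.bez
      simp only [eval_add, eval_mul, eval_one, pF, pG] at h3
      rw [← h1, neg_eq_zero.1 h2.symm] at h3
      simp at h3
    haveI : Algebra.IsAlgebraic (IntermediateField.adjoin k s) M := algebraicClosure.isAlgebraic _ E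
    have halg : IsAlgebraic (IntermediateField.adjoin k s) (φ (.P i)) :=
      (show IsAlgebraic M (φ (.P i)) from ⟨q, hq0, hroot⟩).restrictScalars _
    rw [IntermediateField.isAlgebraic_adjoin_iff] at halg
    exact hind.transcendental_adjoin (s := {i}ᶜ) (i := i) (by simp) halg
  by_cases hi : 2 ≤ e i
  · by_cases hj : 2 ≤ e j
    · obtain ⟨l, rfl⟩ := hιmem i hi
      obtain ⟨l', rfl⟩ := hιmem j hj
      refine hpair l l' (fun hh => hij (hh ▸ rfl)) ?_ hindsub
      rw [hψF, hψG, hψP, hψP]
      exact hval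
    · exact key j i hij.symm hj hval.symm
  · exact key i j hij hi hval

/-- Equations for non-separated configurations. -/
theorem exists_equation {k : Type u} [Field k] (hsum : (∑ i, e i) + 2 = 2 * d + n) (he : ∀ i, 1 ≤ e i)
    (hek : ∀ i, (e i : k) ≠ 0) {i j : Fin n} (hij : i ≠ j) :
    ∃ g : MvPolynomial (Fin n) k, g ≠ 0 ∧ ∀ φ : Var n d → k, Sol e a b φ →
      (pF φ).eval (φ (.P i)) * (pG φ).eval (φ (.P j)) = (pF φ).eval (φ (.P j)) * (pG φ).eval (φ (.P i)) →
      MvPolynomial.eval (fun i => φ (.P i)) g = 0 := by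
  obtain ⟨g, hg0, hg⟩ := exists_relation
    {φ : Var n d → k | Sol e a b φ ∧
      (pF φ).eval (φ (.P i)) * (pG φ).eval (φ (.P j)) = (pF φ).eval (φ (.P j)) * (pG φ).eval (φ (.P i))}
    (fun φ hφ => hφ.1) (fun i : Fin n => (Var.P i : Var n d)) (extra := False)
    (fun E _ _ ψ hvan hψ hind => not_algebraicIndependent_of_eq hψ hsum he hek hij (by
      let U : Var n d → MvPolynomial (Var n d) k := MvPolynomial.X
      have h := hvan ((pF U).eval (U (.P i)) * (pG U).eval (U (.P j)) - (pF U).eval (U (.P j)) * (pG U).eval (U (.P i)))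
        fun φ hφ => by
          simp only [map_sub, map_mul, ← eval_map_apply, pF, pG, pk_map, sub_eq_zero]
          simpa only [Function.comp_def, U, MvPolynomial.eval_X, pF, pG] using hφ.2
      simp only [map_sub, map_mul, sub_eq_zero] at h
      have e1 : ∀ (f : (MvPolynomial (Var n d) k)[X]) (l : Fin n),
          MvPolynomial.aeval ψ (f.eval (U (.P l))) =
            (f.map (MvPolynomial.aeval ψ : MvPolynomial (Var n d) k →ₐ[k] E).toRingHom).eval (ψ (.P l)) := fun f l => by
        rw [show ψ (.P l) = (MvPolynomial.aeval ψ : MvPolynomial (Var n d) k →ₐ[k] E).toRingHom (U (.P l)) from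
          (MvPolynomial.aeval_X ψ _).symm, eval_map_apply]
        rfl
      simp only [e1, pF, pG, pk_map] at h
      simpa only [Function.comp_def, U, AlgHom.toRingHom_eq_coe, RingHom.coe_coe, MvPolynomial.aeval_X, pF, pG] using h)
      hind) id
  exact ⟨g, hg0, fun φ hφ hval => hg φ ⟨hφ, hval⟩⟩

open W4c1limliniiii in
/-- General configurations separate every two points. -/
theorem exists_separating {k : Type u} [Field k] [IsAlgClosed k] (hd : 1 ≤ d)
    (hsum : (∑ i, e i) + 2 = 2 * d + n) (he : ∀ i, 1 ≤ e i) (hek : ∀ i, (e i : k) ≠ 0) (i j : Fin n) (hij : i ≠ j) :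
    ∃ Φ : MvPolynomial (Fin n) k, Φ ≠ 0 ∧ ∀ P : Fin n → k, MvPolynomial.eval P Φ ≠ 0 → Function.Injective P ∧
      ∀ V ∈ ramMaps d P e, ∀ s ∈ V, s.eval (P i) = 0 → s.eval (P j) = 0 → s = 0 := by
  classical
  choose g hg0 hg using fun a b : Fin (d + 1) => exists_equation (a := a) (b := b) hsum he hek hij
  refine ⟨(∏ i : Fin n, ∏ j ∈ Finset.univ.filter (fun j => i ≠ j), (MvPolynomial.X i - MvPolynomial.X j)) *
    (∏ a : Fin (d + 1), ∏ b : Fin (d + 1), g a b), ?_, fun P hP => ?_⟩
  · simp only [mul_ne_zero_iff, Finset.prod_ne_zero_iff]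
    exact ⟨fun i _ j hj => sub_ne_zero.2 fun h => (Finset.mem_filter.1 hj).2 (MvPolynomial.X_injective h),
      fun a _ b _ => hg0 a b⟩
  simp only [map_mul, map_prod, mul_ne_zero_iff, Finset.prod_ne_zero_iff, map_sub, MvPolynomial.eval_X,
    sub_ne_zero, Finset.mem_filter, Finset.mem_univ, true_and, forall_const] at hP
  obtain ⟨hPd, hPg⟩ := hP
  have hPinj : Function.Injective P := fun i j h => by
    by_contra hij
    exact hPd i j hij h
  refine ⟨hPinj, fun V hV s hs hi hj => ?_⟩
  obtain ⟨a, b, φ, hφ, hφP, rfl⟩ := Groth.Agent.S13921.exists_sol hd hPinj hV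
  by_contra hs0
  obtain ⟨x, y, rfl⟩ := Submodule.mem_span_pair.1 hs
  simp only [Polynomial.eval_add, Polynomial.eval_smul, smul_eq_mul, ← hφP] at hi hj
  have hval : (pF φ).eval (φ (.P i)) * (pG φ).eval (φ (.P j)) = (pF φ).eval (φ (.P j)) * (pG φ).eval (φ (.P i)) := by
    by_cases hx : x = 0
    · have hy : y ≠ 0 := fun hy => hs0 (by simp [hx, hy])
      simp [hx, hy] at hi hj
      rw [hi, hj, mul_zero, mul_zero]
    · refine mul_left_cancel₀ hx ?_
      linear_combination (pG φ).eval (φ (.P j)) * hi - (pG φ).eval (φ (.P i)) * hj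
  have h1 := hg a b φ hφ hval
  rw [show (fun i => φ (.P i)) = P from funext hφP] at h1
  exact hPg a b h1

end RamShiftLib

end
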