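import Groth.Agent.RamShiftLib.Basic
import Groth.Agent.RamShiftLib.Separate

/-!
# Replacing two indices by their complements modulo the characteristic
-/

set_option autoImplicit false

universe u

open Polynomial W4c1limliniiii

noncomputable section

namespace RamShiftLib

variable {k : Type u} [Field k]

/-- The transformation of pencils multiplying the rational function by a `p`-th power. -/
def flip (p : ℕ) (u v : k) (eu ev : ℕ) (V : Submodule k k[X]) : Submodule k k[X] :=
  Submodule.span k {f | ∃ s ∈ V,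
    (s.eval u = 0 ∧ (X - C u) ^ eu * (X - C v) ^ ev * f = s * (X - C v) ^ p) ∨
    (s.eval v = 0 ∧ (X - C u) ^ eu * (X - C v) ^ ev * f = s * (X - C u) ^ p)}

theorem flip_span (p : ℕ) (u v : k) (eu ev : ℕ) {F G F' G' : k[X]} (hFu : F.eval u = 0) (hFv : F.eval v ≠ 0)
    (hGu : G.eval u ≠ 0) (hGv : G.eval v = 0) (hF' : (X - C u) ^ eu * (X - C v) ^ ev * F' = F * (X - C v) ^ p)
    (hG' : (X - C u) ^ eu * (X - C v) ^ ev * G' = G * (X - C u) ^ p) :
    flip p u v eu ev (Submodule.span k {F, G}) = Submodule.span k {F', G'} := by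
  have hh : ((X - C u) ^ eu * (X - C v) ^ ev : k[X]) ≠ 0 :=
    mul_ne_zero (pow_ne_zero _ (X_sub_C_ne_zero _)) (pow_ne_zero _ (X_sub_C_ne_zero _))
  refine le_antisymm (Submodule.span_le.2 ?_) (Submodule.span_le.2 ?_)
  · rintro f ⟨s, hs, h | h⟩
    all_goals obtain ⟨x, y, rfl⟩ := Submodule.mem_span_pair.1 hs
    · have hy : y = 0 := by
        have := h.1
        simp [hFu] at this
        exact this.resolve_right hGu
      have hf : f = x • F' := mul_left_cancel₀ hh (by
        rw [h.2, hy, smul_eq_C_mul, smul_eq_C_mul, smul_eq_C_mul, map_zero, zero_mul, add_zero, mul_left_comm,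
          hF', mul_assoc])
      exact hf ▸ Submodule.smul_mem _ _ (Submodule.subset_span (Set.mem_insert _ _))
    · have hx : x = 0 := by
        have := h.1
        simp [hGv] at this
        exact this.resolve_right hFv
      have hf : f = y • G' := mul_left_cancel₀ hh (by
        rw [h.2, hx, smul_eq_C_mul, smul_eq_C_mul, smul_eq_C_mul, map_zero, zero_mul, zero_add, mul_left_comm,
          hG', mul_assoc])
      exact hf ▸ Submodule.smul_mem _ _ (Submodule.subset_span (Set.mem_insert_of_mem _ rfl))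
  · rintro f (rfl | rfl)
    · exact Submodule.subset_span ⟨F, Submodule.subset_span (Set.mem_insert _ _), Or.inl ⟨hFu, hF'⟩⟩
    · exact Submodule.subset_span ⟨G, Submodule.subset_span (Set.mem_insert_of_mem _ rfl), Or.inr ⟨hGv, hG'⟩⟩

theorem rootMultiplicity_pow_ne {u v : k} (h : u ≠ v) (m : ℕ) : rootMultiplicity u ((X - C v) ^ m) = 0 :=
  rootMultiplicity_eq_zero (by simp [IsRoot, sub_eq_zero, h])

variable (p : ℕ) [Fact p.Prime] [CharP k p] {n d d' : ℕ} {e e' : Fin n → ℕ} {P : Fin n → k}

theorem flip_spec (hP : Function.Injective P) {i j : Fin n} (hij : i ≠ j) (he : ∀ l, 1 ≤ e l ∧ e l < p)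
    (he' : ∀ l, 1 ≤ e' l ∧ e' l < p) (hi : e' i + e i = p) (hj : e' j + e j = p)
    (hl : ∀ l, l ≠ i → l ≠ j → e' l = e l) (hd : d' + e i + e j = d + p)
    {V : Submodule k k[X]} (hV : V ∈ ramMaps d P e)
    (hsep : ∀ s ∈ V, s.eval (P i) = 0 → s.eval (P j) = 0 → s = 0) :
    flip p (P i) (P j) (e i) (e j) V ∈ ramMaps d' P e' ∧
      flip p (P i) (P j) (e' i) (e' j) (flip p (P i) (P j) (e i) (e j) V) = V := by
  classical
  obtain ⟨⟨hle, hrank, ⟨s₁, hs₁, hs₁d⟩, hbpf⟩, hsepW, hram⟩ := hV
  have hdeg : ∀ s ∈ V, s.natDegree ≤ d := fun s hs => natDegree_le_iff_degree_le.2 (mem_degreeLE.1 (hle hs))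
  set u := P i with hu
  set v := P j with hv
  have huv : u ≠ v := fun h => hij (hP h)
  obtain ⟨⟨F, hFV, hF0, hFe⟩, hFmax⟩ := hram i
  obtain ⟨⟨G, hGV, hG0, hGe⟩, hGmax⟩ := hram j
  have hFo : F.rootMultiplicity u = e i := le_antisymm (hFmax F hFV hF0) hFe
  have hGo : G.rootMultiplicity v = e j := le_antisymm (hGmax G hGV hG0) hGe
  obtain ⟨F1, hF1, hF1'⟩ := InsepLimLib.exists_factor hF0 u
  obtain ⟨G1, hG1, hG1'⟩ := InsepLimLib.exists_factor hG0 v
  rw [hFo] at hF1
  rw [hGo] at hG1
  have hei : e i ≠ 0 := by have := (he i).1; omega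
  have hej : e j ≠ 0 := by have := (he j).1; omega
  have hFu : F.eval u = 0 := by rw [hF1]; simp [hei]
  have hGv : G.eval v = 0 := by rw [hG1]; simp [hej]
  have hFv : F.eval v ≠ 0 := fun h => hF0 (hsep F hFV hFu h)
  have hGu : G.eval u ≠ 0 := fun h => hG0 (hsep G hGV h hGv)
  have hFi : ∀ x y : k, C x * F + C y * G = 0 → x = 0 ∧ y = 0 := fun x y h => by
    have h1 := congrArg (Polynomial.eval u) h
    have h2 := congrArg (Polynomial.eval v) h
    simp [hFu] at h1
    simp [hGv] at h2
    exact ⟨h2.resolve_right hFv, h1.resolve_right hGu⟩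
  haveI : FiniteDimensional k V := FiniteDimensional.of_finrank_pos (by omega)
  have hspan : Submodule.span k {F, G} = V := by
    refine Submodule.eq_of_le_of_finrank_le (Submodule.span_le.2 ?_) ?_
    · rintro x (rfl | rfl) <;> assumption
    · have hli : LinearIndependent k ![F, G] := LinearIndependent.pair_iff.2 fun x y h => by
        rw [smul_eq_C_mul, smul_eq_C_mul] at h
        exact hFi x y h
      have := finrank_span_eq_card hli
      rw [Matrix.range_cons, Matrix.range_cons, Matrix.range_empty, Set.union_empty, Set.singleton_union,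
        Fintype.card_fin] at this
      omega
  have hbp : ∀ b, ¬ (F.eval b = 0 ∧ G.eval b = 0) := fun b hb => by
    obtain ⟨s, hs, hsb⟩ := hbpf b
    rw [← hspan] at hs
    obtain ⟨x, y, rfl⟩ := Submodule.mem_span_pair.1 hs
    exact hsb (by simp [hb.1, hb.2])
  set F' := F1 * (X - C v) ^ e' j with hF'
  set G' := G1 * (X - C u) ^ e' i with hG'
  set h := (X - C u) ^ e i * (X - C v) ^ e j with hh
  have eF : h * F' = F * (X - C v) ^ p := by
    rw [hh, hF', hF1, show p = e' j + e j from hj.symm, pow_add]; ring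
  have eG : h * G' = G * (X - C u) ^ p := by
    rw [hh, hG', hG1, show p = e' i + e i from hi.symm, pow_add]; ring
  have hflip : flip p u v (e i) (e j) V = Submodule.span k {F', G'} := by
    rw [← hspan]; exact flip_span p u v (e i) (e j) hFu hFv hGu hGv eF eG
  have hei' : e' i ≠ 0 := by have := (he' i).1; omega
  have hej' : e' j ≠ 0 := by have := (he' j).1; omega
  have hF'v : F'.eval v = 0 := by rw [hF']; simp [hej']
  have hG'u : G'.eval u = 0 := by rw [hG']; simp [hei']
  have hF'u : F'.eval u ≠ 0 := by rw [hF']; simp [hF1', sub_eq_zero, huv]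
  have hG'v : G'.eval v ≠ 0 := by rw [hG']; simp [hG1', sub_eq_zero, huv.symm]
  have hback : flip p u v (e' i) (e' j) (Submodule.span k {G', F'}) = Submodule.span k {G, F} := by
    refine flip_span p u v (e' i) (e' j) hG'u hG'v hF'u hF'v ?_ ?_
    · rw [hG', hG1, show p = e' j + e j from hj.symm, pow_add]; ring
    · rw [hF', hF1, show p = e' i + e i from hi.symm, pow_add]; ring
  refine ⟨?_, by rw [hflip, Set.pair_comm, hback, Set.pair_comm, hspan]⟩
  rw [hflip]
  have hi' : ∀ x y : k, C x * F' + C y * G' = 0 → x = 0 ∧ y = 0 := fun x y h => by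
    have h1 := congrArg (Polynomial.eval u) h
    have h2 := congrArg (Polynomial.eval v) h
    simp [hG'u] at h1
    simp [hF'v] at h2
    exact ⟨h1.resolve_right hF'u, h2.resolve_right hG'v⟩
  have hbp' : ∀ b, ¬ (F'.eval b = 0 ∧ G'.eval b = 0) := fun b hb => by
    by_cases hbu : b = u
    · exact hF'u (hbu ▸ hb.1)
    by_cases hbv : b = v
    · exact hG'v (hbv ▸ hb.2)
    refine hbp b ⟨?_, ?_⟩
    · have := hb.1
      rw [hF'] at this
      simp [sub_eq_zero, hbv] at this
      rw [hF1]; simp [this]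
    · have := hb.2
      rw [hG'] at this
      simp [sub_eq_zero, hbu] at this
      rw [hG1]; simp [this]
  have hd1 : F1 ≠ 0 := fun h => hF1' (by simp [h])
  have hd2 : G1 ≠ 0 := fun h => hG1' (by simp [h])
  have hFd : F.natDegree = e i + F1.natDegree := by
    rw [hF1, natDegree_mul (pow_ne_zero _ (X_sub_C_ne_zero _)) hd1, natDegree_pow, natDegree_X_sub_C, mul_one]
  have hGd : G.natDegree = e j + G1.natDegree := by
    rw [hG1, natDegree_mul (pow_ne_zero _ (X_sub_C_ne_zero _)) hd2, natDegree_pow, natDegree_X_sub_C, mul_one]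
  have hF'd : F'.natDegree = F1.natDegree + e' j := by
    rw [hF', natDegree_mul hd1 (pow_ne_zero _ (X_sub_C_ne_zero _)), natDegree_pow, natDegree_X_sub_C, mul_one]
  have hG'd : G'.natDegree = G1.natDegree + e' i := by
    rw [hG', natDegree_mul hd2 (pow_ne_zero _ (X_sub_C_ne_zero _)), natDegree_pow, natDegree_X_sub_C, mul_one]
  have hFle := hdeg F hFV
  have hGle := hdeg G hGV
  have hWid : h * h * wronskian F' G' = (X - C u) ^ p * (X - C v) ^ p * wronskian F G := by
    have hd0 : ∀ t : k, derivative ((X - C t) ^ p) = 0 := fun t => by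
      rw [derivative_pow, CharP.cast_eq_zero, map_zero, zero_mul, zero_mul]
    have e1 : wronskian (h * F') (h * G') = h * h * wronskian F' G' := by
      simp only [wronskian, derivative_mul]; ring
    rw [← e1, eF, eG]
    simp only [wronskian, derivative_mul, hd0]; ring
  have hW0 : wronskian F G ≠ 0 := fun h0 => by
    obtain ⟨a, ha, b, hb, hab⟩ := hsepW
    rw [← hspan] at ha hb
    obtain ⟨x, y, rfl⟩ := Submodule.mem_span_pair.1 ha
    obtain ⟨z, w, rfl⟩ := Submodule.mem_span_pair.1 hb
    apply hab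
    rw [smul_eq_C_mul, smul_eq_C_mul, smul_eq_C_mul, smul_eq_C_mul, InsepLimLib.wronskian_comb, h0, mul_zero]
  have hh0 : h ≠ 0 := mul_ne_zero (pow_ne_zero _ (X_sub_C_ne_zero _)) (pow_ne_zero _ (X_sub_C_ne_zero _))
  have hW0' : wronskian F' G' ≠ 0 := fun h0 => by
    rw [h0, mul_zero] at hWid
    exact mul_ne_zero (mul_ne_zero (pow_ne_zero p (X_sub_C_ne_zero u)) (pow_ne_zero p (X_sub_C_ne_zero v))) hW0 hWid.symm
  have hord : ∀ l, rootMultiplicity (P l) (wronskian F' G') = e' l - 1 := by
    intro l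
    have hr := hram l
    rw [← hspan] at hr
    have hl1 : e l - 1 ≤ rootMultiplicity (P l) (wronskian F G) :=
      (le_rootMultiplicity_iff hW0).2 (wronskian_dvd_of_hasRamIdx hr)
    have hl2 : rootMultiplicity (P l) (wronskian F G) < e l := by
      by_contra hc
      refine not_dvd_of_hasRamIdx (hbp _) (by have := (he l).1; omega) ?_ hr
        ((le_rootMultiplicity_iff hW0).1 (not_lt.1 hc))
      rw [Ne, CharP.cast_eq_zero_iff k p]
      intro hdvd
      have := Nat.le_of_dvd (he l).1 hdvd
      have := (he l).2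
      omega
    have hA : ∀ m, ((X - C u) ^ m : k[X]) ≠ 0 := fun m => pow_ne_zero _ (X_sub_C_ne_zero _)
    have hB : ∀ m, ((X - C v) ^ m : k[X]) ≠ 0 := fun m => pow_ne_zero _ (X_sub_C_ne_zero _)
    have h1 := congrArg (rootMultiplicity (P l)) hWid
    rw [hh, rootMultiplicity_mul (mul_ne_zero (mul_ne_zero hh0 hh0) hW0'), rootMultiplicity_mul (mul_ne_zero hh0 hh0),
      rootMultiplicity_mul hh0, rootMultiplicity_mul (mul_ne_zero (mul_ne_zero (hA p) (hB p)) hW0),
      rootMultiplicity_mul (mul_ne_zero (hA p) (hB p))] at h1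
    have hl' := (he' l).1
    by_cases hli : l = i
    · subst hli
      rw [← hu, rootMultiplicity_X_sub_C_pow, rootMultiplicity_X_sub_C_pow, rootMultiplicity_pow_ne huv,
        rootMultiplicity_pow_ne huv] at h1
      rw [← hu] at hl1 hl2 ⊢
      omega
    by_cases hlj : l = j
    · subst hlj
      rw [← hv, rootMultiplicity_X_sub_C_pow, rootMultiplicity_X_sub_C_pow, rootMultiplicity_pow_ne huv.symm,
        rootMultiplicity_pow_ne huv.symm] at h1
      rw [← hv] at hl1 hl2 ⊢
      omega
    have h2 := fun h' => hli (hP (h' : P l = P i))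
    have h3 := fun h' => hlj (hP (h' : P l = P j))
    rw [rootMultiplicity_pow_ne h2, rootMultiplicity_pow_ne h2, rootMultiplicity_pow_ne h3,
      rootMultiplicity_pow_ne h3] at h1
    rw [hl l hli hlj]
    omega
  refine ⟨⟨?_, ?_, ?_, fun b => ?_⟩, ⟨F', Submodule.subset_span (Set.mem_insert _ _), G',
    Submodule.subset_span (Set.mem_insert_of_mem _ rfl), hW0'⟩, fun l => ?_⟩
  · rw [Submodule.span_le]
    rintro x (rfl | rfl)
    · exact mem_degreeLE.2 (degree_le_of_natDegree_le (by omega))
    · exact mem_degreeLE.2 (degree_le_of_natDegree_le (by omega))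
  · have hli : LinearIndependent k ![F', G'] := LinearIndependent.pair_iff.2 fun x y h => by
      rw [smul_eq_C_mul, smul_eq_C_mul] at h
      exact hi' x y h
    have := finrank_span_eq_card hli
    rwa [Matrix.range_cons, Matrix.range_cons, Matrix.range_empty, Set.union_empty, Set.singleton_union,
      Fintype.card_fin] at this
  · by_cases hFeq : F.natDegree = d
    · exact ⟨F', Submodule.subset_span (Set.mem_insert _ _), by omega⟩
    · refine ⟨G', Submodule.subset_span (Set.mem_insert_of_mem _ rfl), ?_⟩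
      have hGeq : G.natDegree = d := by
        by_contra hGne
        rw [← hspan] at hs₁
        obtain ⟨x, y, rfl⟩ := Submodule.mem_span_pair.1 hs₁
        have := natDegree_add_le (x • F) (y • G)
        have := natDegree_smul_le x F
        have := natDegree_smul_le y G
        omega
      omega
  · by_cases hb : F'.eval b = 0
    · exact ⟨G', Submodule.subset_span (Set.mem_insert_of_mem _ rfl), fun h' => hbp' b ⟨hb, h'⟩⟩
    · exact ⟨F', Submodule.subset_span (Set.mem_insert _ _), hb⟩
  · refine hasRamIdx_of_wronskian p (hbp' _) hi' (he' l).1 (Or.inr (he' l).2) ?_ ?_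
    · exact (le_rootMultiplicity_iff hW0').1 (hord l).ge
    · intro hdvd
      have := (le_rootMultiplicity_iff hW0').2 hdvd
      have := (he' l).1
      rw [hord l] at *
      omega

/-- The general counts agree in one direction. -/
theorem hasGenericCount_flip [IsAlgClosed k] {i j : Fin n} (hij : i ≠ j) (he : ∀ l, 1 ≤ e l ∧ e l < p)
    (he' : ∀ l, 1 ≤ e' l ∧ e' l < p) (hi : e' i + e i = p) (hj : e' j + e j = p)
    (hl : ∀ l, l ≠ i → l ≠ j → e' l = e l) (hd : d' + e i + e j = d + p) (hd1 : 1 ≤ d) (hd1' : 1 ≤ d')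
    (hsum : (∑ l, e l) + 2 = 2 * d + n) (hsum' : (∑ l, e' l) + 2 = 2 * d' + n) {m : ℕ}
    (h : HasGenericCount (k := k) d e m) : HasGenericCount (k := k) d' e' m := by
  have hcast : ∀ {e : Fin n → ℕ}, (∀ l, 1 ≤ e l ∧ e l < p) → ∀ l, (e l : k) ≠ 0 := fun he l hz => by
    rw [CharP.cast_eq_zero_iff k p] at hz
    have := Nat.le_of_dvd (he l).1 hz
    have := (he l).2
    omega
  obtain ⟨Φ, hΦ, hcount⟩ := h
  obtain ⟨Ψ, hΨ, hsep⟩ := exists_separating hd1 hsum (fun l => (he l).1) (hcast he) i j hij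
  obtain ⟨Ψ', hΨ', hsep'⟩ := exists_separating hd1' hsum' (fun l => (he' l).1) (hcast he') i j hij
  refine ⟨Φ * Ψ * Ψ', mul_ne_zero (mul_ne_zero hΦ hΨ) hΨ', fun P hP => ?_⟩
  simp only [map_mul, mul_ne_zero_iff] at hP
  obtain ⟨hinj, hs⟩ := hsep P hP.1.2
  obtain ⟨-, hs'⟩ := hsep' P hP.2
  obtain ⟨hfin, hcard⟩ := hcount P hP.1.1
  let E : ramMaps d P e ≃ ramMaps d' P e' :=
    { toFun := fun V => ⟨flip p (P i) (P j) (e i) (e j) V.1,
        (flip_spec p hinj hij he he' hi hj hl hd V.2 (hs _ V.2)).1⟩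
      invFun := fun V => ⟨flip p (P i) (P j) (e' i) (e' j) V.1,
        (flip_spec p (d := d') (d' := d) hinj hij he' he (by omega) (by omega) (fun l a b => (hl l a b).symm) (by omega) V.2
          (hs' _ V.2)).1⟩
      left_inv := fun V => Subtype.ext (flip_spec p hinj hij he he' hi hj hl hd V.2 (hs _ V.2)).2
      right_inv := fun V => Subtype.ext (flip_spec p (d := d') (d' := d) hinj hij he' he (by omega) (by omega)
        (fun l a b => (hl l a b).symm) (by omega) V.2 (hs' _ V.2)).2 }
  haveI := hfin.to_subtype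
  exact ⟨Set.finite_coe_iff.1 (Finite.of_equiv _ E), (Nat.card_congr E).symm.trans hcard⟩

end RamShiftLib

end
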